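import Groth.Agent.FlatDescent.Slicing.BaseChange
import Groth.Agent.FlatDescent.Scheme
import Groth.Prelude.Def_Mor2

/-!
# Slices of a flat morphism by fibrewise regular sequences, scheme level
-/

universe u

open CategoryTheory CategoryTheory.Limits AlgebraicGeometry MvPolynomial

namespace Groth.FlatDescent.Slicing

theorem isWeaklyRegular_ringEquiv {A A' : Type u} [CommRing A] [CommRing A'] (e : A ≃+* A') {l : List A}
    (h : RingTheory.Sequence.IsWeaklyRegular A l) : RingTheory.Sequence.IsWeaklyRegular A' (l.map e) :=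
  (e.toAddEquiv.isWeaklyRegular_congr
    (List.forall₂_map_right_iff.mpr (List.forall₂_same.mpr fun a _ z => map_mul e a z))).mp h

theorem ofList_ofFn {A : Type u} [CommRing A] {n : ℕ} (t : Fin n → A) :
    Ideal.ofList (List.ofFn t) = Ideal.span (Set.range t) := by
  show Ideal.span {r | r ∈ List.ofFn t} = _
  congr 1
  ext r
  simp [List.mem_ofFn']

/-- A finite list of germs comes from sections on a common neighbourhood. -/
theorem exists_sections {X : Scheme.{u}} (x : X) (hs : List (X.presheaf.stalk x)) :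
    ∃ (W : X.Opens) (hx : x ∈ W) (l : List Γ(X, W)), l.map (X.presheaf.germ W x hx) = hs := by
  induction hs with
  | nil => exact ⟨⊤, trivial, [], rfl⟩
  | cons a hs ih =>
    obtain ⟨W, hx, l, hl⟩ := ih
    obtain ⟨W', hx', s, rfl⟩ := X.presheaf.germ_exist a
    refine ⟨W ⊓ W', ⟨hx, hx'⟩, (X.presheaf.map (homOfLE inf_le_right).op s) ::
      l.map (X.presheaf.map (homOfLE inf_le_left).op), ?_⟩
    rw [List.map_cons, List.map_map, TopCat.Presheaf.germ_res_apply, ← hl]
    congr 1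
    refine List.map_congr_left fun b _ => ?_
    exact TopCat.Presheaf.germ_res_apply X.presheaf _ x _ b

variable {X S : Scheme.{u}}

/-- A chart on which a fibrewise regular sequence gives a flat map to affine space. -/
theorem exists_slice (f : X ⟶ S) [LocallyOfFinitePresentation f] (x : X)
    (hflat : (f.stalkMap x).hom.Flat) (hs : List (X.presheaf.stalk x))
    (hmem : ∀ a ∈ hs, a ∈ IsLocalRing.maximalIdeal (X.presheaf.stalk x))
    (hreg : RingTheory.Sequence.IsWeaklyRegular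
      (X.presheaf.stalk x ⧸ Ideal.map (f.stalkMap x).hom (IsLocalRing.maximalIdeal (S.presheaf.stalk (f x))))
      (hs.map (Ideal.Quotient.mk (Ideal.map (f.stalkMap x).hom (IsLocalRing.maximalIdeal (S.presheaf.stalk (f x))))))) :
    ∃ (V : S.Opens) (U : X.Opens) (_ : IsAffineOpen V) (_ : IsAffineOpen U) (e : U ≤ f ⁻¹ᵁ V) (hx : x ∈ U)
      (n : ℕ) (b : Fin n → Γ(X, U)), (List.ofFn b).map (X.presheaf.germ U x hx) = hs ∧
        (∀ i, X.presheaf.germ U x hx (b i) ∈ IsLocalRing.maximalIdeal (X.presheaf.stalk x)) ∧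
        (eval₂Hom (f.appLE V U e).hom b).Flat := by
  obtain ⟨W, hxW, l, hl⟩ := exists_sections x hs
  obtain ⟨_, ⟨V, hV, rfl⟩, hxV, -⟩ := S.isBasis_affineOpens.exists_subset_of_mem_open (Set.mem_univ (f x)) isOpen_univ
  obtain ⟨_, ⟨U, hU, rfl⟩, hxU, hUW⟩ := X.isBasis_affineOpens.exists_subset_of_mem_open
    (show x ∈ (f ⁻¹ᵁ V ⊓ W : X.Opens) from ⟨hxV, hxW⟩) (f ⁻¹ᵁ V ⊓ W).2
  have eUV : U ≤ f ⁻¹ᵁ V := fun z hz => (hUW hz).1
  have eUW : U ≤ W := fun z hz => (hUW hz).2
  let res := X.presheaf.map (homOfLE eUW).op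
  let b : Fin l.length → Γ(X, U) := fun i => res (l.get i)
  have hb : (List.ofFn b).map (X.presheaf.germ U x hxU) = hs := by
    rw [← hl, List.map_ofFn]
    conv_rhs => rw [← List.ofFn_get l, List.map_ofFn]
    congr 1
    funext i
    exact TopCat.Presheaf.germ_res_apply X.presheaf _ x _ _
  have hbm : ∀ i, X.presheaf.germ U x hxU (b i) ∈ IsLocalRing.maximalIdeal (X.presheaf.stalk x) := fun i =>
    hmem _ (by rw [← hb]; exact List.mem_map_of_mem (by simp))
  letI := (f.appLE V U eUV).hom.toAlgebra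
  haveI : Algebra.FinitePresentation Γ(S, V) Γ(X, U) :=
    HasRingHomProperty.appLE @LocallyOfFinitePresentation f inferInstance ⟨V, hV⟩ ⟨U, hU⟩ eUV
  let Q := (hU.primeIdealOf ⟨x, hxU⟩).asIdeal
  have hQ : FlatCA.FlatAt Γ(S, V) Q Γ(X, U) := (flat_stalkMap_iff f hV hU eUV hxU).mp hflat
  letI := X.presheaf.algebra_section_stalk (U := U) ⟨x, hxU⟩
  haveI hloc : IsLocalization.AtPrime (X.presheaf.stalk x) Q := hU.isLocalization_stalk ⟨x, hxU⟩
  letI : Algebra Γ(S, V) (X.presheaf.stalk x) :=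
    ((algebraMap Γ(X, U) (X.presheaf.stalk x)).comp (algebraMap Γ(S, V) Γ(X, U))).toAlgebra
  haveI : IsScalarTower Γ(S, V) Γ(X, U) (X.presheaf.stalk x) := IsScalarTower.of_algebraMap_eq fun _ => rfl
  let p := Q.comap (algebraMap Γ(S, V) Γ(X, U))
  let I := Ideal.map (f.stalkMap x).hom (IsLocalRing.maximalIdeal (S.presheaf.stalk (f x)))
  have hI : I = p.map (algebraMap Γ(S, V) (X.presheaf.stalk x)) := by
    letI := S.presheaf.algebra_section_stalk (U := V) ⟨f x, hxV⟩
    haveI := hV.isLocalization_stalk ⟨f x, hxV⟩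
    have hp : p = (hV.primeIdealOf ⟨f x, hxV⟩).asIdeal :=
      congrArg PrimeSpectrum.asIdeal (IsAffineOpen.comap_primeIdealOf_appLE (f := f) V hV U hU eUV hxU)
    show Ideal.map _ _ = _
    rw [← IsLocalization.AtPrime.map_eq_maximalIdeal (hV.primeIdealOf ⟨f x, hxV⟩).asIdeal
      (S.presheaf.stalk (f x)), ← hp, Ideal.map_map]
    congr 1
    ext r
    show (f.stalkMap x) (S.presheaf.germ V (f x) hxV r) = X.presheaf.germ U x hxU (f.appLE V U eUV r)
    rw [Scheme.Hom.germ_stalkMap_apply, Scheme.Hom.appLE, CommRingCat.comp_apply, TopCat.Presheaf.germ_res_apply]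
  let T := Localization.AtPrime Q
  let eT : X.presheaf.stalk x ≃ₐ[Γ(X, U)] T := IsLocalization.algEquiv Q.primeCompl _ _
  have heT : p.map (algebraMap Γ(S, V) T) = I.map (eT : X.presheaf.stalk x →+* T) := by
    rw [hI, Ideal.map_map]
    congr 1
    ext r
    show algebraMap Γ(S, V) T r = eT (algebraMap Γ(X, U) (X.presheaf.stalk x) (algebraMap Γ(S, V) Γ(X, U) r))
    rw [eT.commutes, ← IsScalarTower.algebraMap_apply]
  let eq' := Ideal.quotientEquiv I (p.map (algebraMap Γ(S, V) T)) eT.toRingEquiv heT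
  have hreg' : RingTheory.Sequence.IsWeaklyRegular (T ⧸ p.map (algebraMap Γ(S, V) T))
      (List.ofFn fun i => Ideal.Quotient.mk (p.map (algebraMap Γ(S, V) T)) (algebraMap Γ(X, U) T (b i))) := by
    have h := isWeaklyRegular_ringEquiv eq' hreg
    rw [← hb, List.map_map, List.map_map, List.map_ofFn] at h
    refine (congrArg (RingTheory.Sequence.IsWeaklyRegular _) (congrArg List.ofFn (funext fun i => ?_))).mp h
    exact (Ideal.quotientEquiv_mk I (p.map (algebraMap Γ(S, V) T)) eT.toRingEquiv heT _).trans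
      (congrArg (Ideal.Quotient.mk _) (eT.commutes (b i)))
  have hbQ : ∀ i, b i ∈ Q := fun i => (IsLocalization.AtPrime.to_map_mem_maximal_iff _ Q (b i)).mp (hbm i)
  obtain ⟨g, hg, hC⟩ := exists_away_flat Q hQ b hbQ hreg'
  have hxg : x ∈ X.basicOpen g := by
    rw [X.mem_basicOpen g x hxU]
    exact IsLocalization.map_units (M := Q.primeCompl) (X.presheaf.stalk x) ⟨g, hg⟩
  have eg : X.basicOpen g ≤ U := X.basicOpen_le g
  haveI := hU.isLocalization_basicOpen g
  letI : Algebra Γ(S, V) Γ(X, X.basicOpen g) :=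
    ((algebraMap Γ(X, U) Γ(X, X.basicOpen g)).comp (algebraMap Γ(S, V) Γ(X, U))).toAlgebra
  haveI : IsScalarTower Γ(S, V) Γ(X, U) Γ(X, X.basicOpen g) := IsScalarTower.of_algebraMap_eq fun _ => rfl
  have hfl := hC Γ(X, X.basicOpen g) inferInstance
  have hgerm : ∀ a : Γ(X, U), X.presheaf.germ (X.basicOpen g) x hxg (algebraMap Γ(X, U) Γ(X, X.basicOpen g) a) =
      X.presheaf.germ U x hxU a := fun a => TopCat.Presheaf.germ_res_apply X.presheaf _ x _ a
  refine ⟨V, X.basicOpen g, hV, hU.basicOpen g, eg.trans eUV, hxg, _,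
    fun i => algebraMap Γ(X, U) Γ(X, X.basicOpen g) (b i), ?_, fun i => by rw [hgerm]; exact hbm i, ?_⟩
  · rw [← hb, List.map_ofFn, List.map_ofFn]
    exact congrArg List.ofFn (funext fun i => hgerm (b i))
  · convert hfl using 1
    refine MvPolynomial.ringHom_ext (fun r => ?_) fun i => ?_
    · show eval₂Hom (f.appLE V (X.basicOpen g) _).hom _ (MvPolynomial.C r) = aeval _ (MvPolynomial.C r)
      rw [eval₂Hom_C, aeval_C]
      exact (ConcreteCategory.congr_hom (Scheme.Hom.appLE_map f eUV (homOfLE eg).op) r).symm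
    · show eval₂Hom (f.appLE V (X.basicOpen g) _).hom _ (MvPolynomial.X i) = aeval _ (MvPolynomial.X i)
      rw [eval₂Hom_X', aeval_X]

/-- Shrinking the chart of a slice to a basic open. -/
theorem flat_eval₂Hom_basicOpen (f : X ⟶ S) {V : S.Opens} {U : X.Opens} (hU : IsAffineOpen U) (e : U ≤ f ⁻¹ᵁ V)
    {n : ℕ} (b : Fin n → Γ(X, U)) (h : (eval₂Hom (f.appLE V U e).hom b).Flat) (g : Γ(X, U)) :
    (eval₂Hom (f.appLE V (X.basicOpen g) ((X.basicOpen_le g).trans e)).hom
      fun i => X.presheaf.map (homOfLE (X.basicOpen_le g)).op (b i)).Flat := by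
  haveI := hU.isLocalization_basicOpen g
  have h2 : (algebraMap Γ(X, U) Γ(X, X.basicOpen g)).Flat :=
    RingHom.flat_algebraMap_iff.mpr (IsLocalization.flat _ (Submonoid.powers g))
  convert RingHom.Flat.comp h h2 using 1
  refine MvPolynomial.ringHom_ext (fun r => ?_) fun i => ?_
  · rw [eval₂Hom_C, RingHom.comp_apply, eval₂Hom_C]
    exact (ConcreteCategory.congr_hom (Scheme.Hom.appLE_map f e (homOfLE (X.basicOpen_le g)).op) r).symm
  · rw [eval₂Hom_X', RingHom.comp_apply, eval₂Hom_X']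
    rfl

/-- A closed immersion cut out locally by sections giving flat maps to affine spaces is regular. -/
theorem isRegularClosedImmersion_of_flat {Z : Scheme.{u}} (j : Z ⟶ X) [IsClosedImmersion j]
    (h : ∀ z : Z, ∃ (O : X.Opens) (hO : IsAffineOpen O), j z ∈ O ∧ ∃ (n : ℕ) (R : Type u) (_ : CommRing R)
      (ψ : MvPolynomial (Fin n) R →+* Γ(X, O)), ψ.Flat ∧
        j.ker.ideal ⟨O, hO⟩ = Ideal.span (Set.range fun i => ψ (MvPolynomial.X i))) :
    Mor2.IsRegularClosedImmersion j := by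
  refine ⟨inferInstance, fun z => ?_⟩
  obtain ⟨O, hO, hz, n, R, _, ψ, hψ, hker⟩ := h z
  refine ⟨O, hO, hz, List.ofFn fun i => ψ (MvPolynomial.X i), ⟨isWeaklyRegular_of_flat ψ hψ, ?_⟩, ?_⟩
  · intro htop
    rw [smul_eq_mul, Ideal.mul_top, ofList_ofFn, ← hker, Scheme.Hom.ker_apply] at htop
    have h1 : j.app O 1 = 0 := RingHom.mem_ker.mp (htop.le (Submodule.mem_top (x := 1)))
    rw [map_one] at h1
    have h2 := congrArg (Z.presheaf.germ (j ⁻¹ᵁ O) z hz) h1
    rw [map_one, map_zero] at h2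
    exact one_ne_zero h2
  · rw [ofList_ofFn, hker]

end Groth.FlatDescent.Slicing
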