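import Groth.Agent.FlatDescent.Slicing.Chart
import Groth.Agent.FibrewiseCrit.LQF
import Groth.Agent.DepthLib.CMModule
import Groth.Prelude.Def_MoreMor

/-!
# Slices of Cohen–Macaulay morphisms are quasi-finite
-/

universe u

open CategoryTheory CategoryTheory.Limits AlgebraicGeometry TopologicalSpace MvPolynomial
open Groth.Agent.DepthLib LocCoh

namespace Groth.FlatDescent.Slicing

/-- A Cohen–Macaulay local ring has a regular sequence with primary ideal. -/
theorem exists_regular_primary (T : Type u) [CommRing T] [IsCohenMacaulayLocalRing T] :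
    ∃ rs : List T, RingTheory.Sequence.IsWeaklyRegular T rs ∧ (∀ r ∈ rs, r ∈ IsLocalRing.maximalIdeal T) ∧
      ∀ p : Ideal T, p.IsPrime → Ideal.ofList rs ≤ p → p = IsLocalRing.maximalIdeal T := by
  have hIM : IsLocalRing.maximalIdeal T • (⊤ : Submodule T T) ≠ ⊤ := by
    rw [smul_eq_mul, Ideal.mul_top]
    exact (IsLocalRing.maximalIdeal.isMaximal T).ne_top
  obtain ⟨rs, -, hreg, hmem, hmax⟩ :=
    exists_maximal_extension hIM (RingTheory.Sequence.IsWeaklyRegular.nil T T) (by simp)
  refine ⟨rs, hreg, hmem, fun p hp hle => ?_⟩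
  have hlen : (rs.length : ℕ∞) = depth T T := length_eq_idealDepth_of_maximal hreg hmem hmax
  let M := T ⧸ (Ideal.ofList rs • ⊤ : Submodule T T)
  have hdim : Module.supportDim T M + rs.length = Module.supportDim T T := supportDim_quot_ofList_add_length hmem hreg
  have hd0 : Module.supportDim T M ≤ 0 := by
    rw [Module.supportDim_self_eq_ringKrullDim, ringKrullDim_eq_depth, ← hlen] at hdim
    generalize Module.supportDim T M = d at hdim
    induction d with
    | bot => exact bot_le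
    | coe d =>
      have h2 : d + (rs.length : ℕ∞) = (rs.length : ℕ∞) := by exact_mod_cast hdim
      induction d using ENat.recTopCoe with
      | top => simp at h2
      | coe d =>
        have h3 : d + rs.length = rs.length := by exact_mod_cast h2
        have h4 : d = 0 := by omega
        subst h4
        exact le_refl _
  have hsupp : (⟨p, hp⟩ : PrimeSpectrum T) ∈ Module.support T M := by
    rw [Module.support_eq_zeroLocus, PrimeSpectrum.mem_zeroLocus]
    intro r hr
    have h0 : r • Submodule.Quotient.mk (p := (Ideal.ofList rs • ⊤ : Submodule T T)) (1 : T) = 0 :=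
      Module.mem_annihilator.mp hr _
    rw [← Submodule.Quotient.mk_smul, Submodule.Quotient.mk_eq_zero, smul_eq_mul, smul_eq_mul, mul_one,
      Ideal.mul_top] at h0
    exact hle h0
  have h1 : ringKrullDim (T ⧸ p) ≤ 0 := (ringKrullDim_quotient_le_supportDim _ hsupp).trans hd0
  haveI : Ring.KrullDimLE 0 (T ⧸ p) := Ring.krullDimLE_iff.mpr h1
  exact IsLocalRing.eq_maximalIdeal (Ideal.Quotient.maximal_of_isField p
    Ring.KrullDimLE.isField_of_isDomain)

/-- In a locally Noetherian scheme a closed point without generalisations is open. -/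
theorem isOpen_singleton_of_minimal {F : Scheme.{u}} [IsLocallyNoetherian F] (z : F) (hc : IsClosed ({z} : Set F))
    (hmin : ∀ z' : F, z' ⤳ z → z' = z) : IsOpen ({z} : Set F) := by
  obtain ⟨_, ⟨W, hW, rfl⟩, hzW, -⟩ := F.isBasis_affineOpens.exists_subset_of_mem_open (Set.mem_univ z) isOpen_univ
  haveI : IsAffine (W : Scheme.{u}) := hW
  haveI : IsNoetherian (W : Scheme.{u}) := ⟨⟩
  let z₀ : (W : Scheme.{u}) := ⟨z, hzW⟩
  have hmin₀ : ∀ z' : (W : Scheme.{u}), z' ⤳ z₀ → z' = z₀ := fun z' h => Subtype.ext (hmin z'.1 (h.map continuous_subtype_val))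
  have key : ∀ C ∈ irreducibleComponents (W : Scheme.{u}), z₀ ∈ C → C = {z₀} := by
    intro C hC hz
    obtain ⟨η, hη⟩ := QuasiSober.sober hC.1 (isClosed_of_mem_irreducibleComponents C hC)
    have := hmin₀ η (hη.specializes hz)
    subst this
    have hc₀ : IsClosed ({z₀} : Set (W : Scheme.{u})) := by
      have : ({z₀} : Set (W : Scheme.{u})) = Subtype.val ⁻¹' {z} := by ext a; exact Subtype.ext_iff
      rw [this]; exact hc.preimage continuous_subtype_val
    exact hη.symm.trans hc₀.closure_eq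
  have hopen : IsOpen ({z₀} : Set (W : Scheme.{u})) := by
    have hfin := TopologicalSpace.NoetherianSpace.finite_irreducibleComponents (α := (W : Scheme.{u}))
    let B := ⋃ C ∈ {C ∈ irreducibleComponents (W : Scheme.{u}) | z₀ ∉ C}, C
    have hB : IsClosed B :=
      (hfin.subset (fun _ h => h.1)).isClosed_biUnion fun C hC => isClosed_of_mem_irreducibleComponents C hC.1
    have : ({z₀} : Set (W : Scheme.{u})) = Bᶜ := by
      ext a
      constructor
      · rintro rfl ha
        obtain ⟨C, hC, haC⟩ := Set.mem_iUnion₂.mp ha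
        exact hC.2 haC
      · intro ha
        have hC := irreducibleComponent_mem_irreducibleComponents a
        by_cases hz : z₀ ∈ irreducibleComponent a
        · rw [← key _ hC hz]; exact mem_irreducibleComponent
        · exact absurd (Set.mem_iUnion₂.mpr ⟨irreducibleComponent a, ⟨hC, hz⟩, mem_irreducibleComponent⟩ : a ∈ B) ha
    rw [this]; exact hB.isOpen_compl
  have := W.2.isOpenMap_subtype_val _ hopen
  convert this using 1
  exact (Set.image_singleton (f := Subtype.val) (a := z₀)).symm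

variable {X S : Scheme.{u}}

/-- Cutting by a primary regular sequence of the fibre leaves the point without generalisations. -/
theorem eq_of_specializes_of_mem_slice (f : X ⟶ S) {U : X.Opens} (hU : IsAffineOpen U) {n : ℕ}
    (b : Fin n → Γ(X, U)) (J : Ideal Γ(X, U)) (hJ : J = Ideal.span (Set.range b)) {x : X} (hx : x ∈ U)
    (hprim : ∀ p : Ideal ((f.fiber (f x)).presheaf.stalk (f.asFiber x)), p.IsPrime →
      (∀ i, ((f.fiberι (f x)).stalkMap (f.asFiber x))
        (X.presheaf.germ U (f.fiberι (f x) (f.asFiber x)) (by rwa [Scheme.Hom.fiberι_asFiber]) (b i)) ∈ p) →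
      p = IsLocalRing.maximalIdeal _)
    {x' : X} (hx' : x' ∈ Set.range (Spec.map (CommRingCat.ofHom (Ideal.Quotient.mk J)) ≫ hU.fromSpec))
    (hfib : f x' = f x) (hsp : x' ⤳ x) : x' = x := by
  let s := f x
  let a := f.asFiber x
  let a' : f.fiber s := (f.fiberHomeo s).symm ⟨x', hfib⟩
  have ha : f.fiberι s a = x := f.fiberι_asFiber x
  have ha' : f.fiberι s a' = x' := f.fiberι_fiberHomeo_symm s _
  have hsp' : a' ⤳ a := (f.fiberι s).isEmbedding.isInducing.specializes_iff.mp (by rwa [ha, ha'])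
  obtain ⟨p, hp⟩ : a' ∈ Set.range ((f.fiber s).fromSpecStalk a) := by
    rw [Scheme.range_fromSpecStalk]; exact hsp'
  let π := (f.fiberι s).stalkMap a
  have hxa : f.fiberι s a ∈ U := by rw [ha]; exact hx
  let P : PrimeSpectrum (X.presheaf.stalk (f.fiberι s a)) := Spec.map π p
  have hP : X.fromSpecStalk (f.fiberι s a) P = x' := by
    show X.fromSpecStalk (f.fiberι s a) (Spec.map π p) = x'
    rw [← Scheme.Hom.comp_apply, Scheme.SpecMap_stalkMap_fromSpecStalk, Scheme.Hom.comp_apply, hp, ha']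
  obtain ⟨q, hq⟩ := hx'
  rw [Scheme.Hom.comp_apply] at hq
  have h1 : hU.fromSpec (Spec.map (X.presheaf.germ U (f.fiberι s a) hxa) P) = x' := by
    rw [← Scheme.Hom.comp_apply]
    have := hU.fromSpecStalk_eq_fromSpecStalk hxa
    rw [IsAffineOpen.fromSpecStalk] at this
    rw [this, hP]
  have h2 := hU.fromSpec.isOpenEmbedding.injective (h1.trans hq.symm)
  have hpm : p.asIdeal = IsLocalRing.maximalIdeal _ := hprim p.asIdeal p.isPrime fun i => by
    have h3 : b i ∈ (Spec.map (CommRingCat.ofHom (Ideal.Quotient.mk J)) q).asIdeal := by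
      show Ideal.Quotient.mk J (b i) ∈ q.asIdeal
      rw [Ideal.Quotient.eq_zero_iff_mem.mpr (hJ ▸ Ideal.subset_span ⟨i, rfl⟩)]
      exact zero_mem _
    rw [← h2] at h3
    exact h3
  have hp' : p = IsLocalRing.closedPoint ((f.fiber s).presheaf.stalk a) := PrimeSpectrum.ext hpm
  rw [← ha', ← hp, hp', Scheme.fromSpecStalk_closedPoint, ha]

/-- Slices of flat morphisms with Cohen–Macaulay fibre are quasi-finite. -/
theorem exists_quasiFinite_slice (f : X ⟶ S) [LocallyOfFinitePresentation f] (x : X)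
    (hcm : MoreMor.IsCMAt f x) (hcl : IsClosed ({f.asFiber x} : Set (f.fiber (f x)))) :
    ∃ (V : S.Opens) (U : X.Opens) (_ : IsAffineOpen V) (hU : IsAffineOpen U) (e : U ≤ f ⁻¹ᵁ V)
      (n : ℕ) (b : Fin n → Γ(X, U)), (eval₂Hom (f.appLE V U e).hom b).Flat ∧
        x ∈ Set.range (Spec.map (CommRingCat.ofHom (Ideal.Quotient.mk (Ideal.span (Set.range b)))) ≫ hU.fromSpec) ∧
        LocallyQuasiFinite (Spec.map (CommRingCat.ofHom (Ideal.Quotient.mk (Ideal.span (Set.range b)))) ≫ hU.fromSpec ≫ f) ∧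
        ∀ x' ∈ Set.range (Spec.map (CommRingCat.ofHom (Ideal.Quotient.mk (Ideal.span (Set.range b)))) ≫ hU.fromSpec),
          f x' = f x → x' = x := by
  obtain ⟨hflat, hT⟩ := hcm
  haveI := hT
  let π := (f.fiberι (f x)).stalkMap (f.asFiber x)
  have hxx : f.fiberι (f x) (f.asFiber x) = x := f.fiberι_asFiber x
  have hπ : Function.Surjective π.hom := SurjectiveOnStalks.stalkMap_surjective _ _
  obtain ⟨rs, hrs, hrsm, hprim⟩ := exists_regular_primary ((f.fiber (f x)).presheaf.stalk (f.asFiber x))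
  obtain ⟨hs₀, hs₀e⟩ : ∃ hs₀ : List (X.presheaf.stalk (f.fiberι (f x) (f.asFiber x))), hs₀.map π.hom = rs := by
    clear hrs hrsm hprim
    induction rs with
    | nil => exact ⟨[], rfl⟩
    | cons r rs ih =>
      obtain ⟨c, rfl⟩ := hπ r
      obtain ⟨l, rfl⟩ := ih
      exact ⟨c :: l, rfl⟩
  obtain ⟨y, hy⟩ : ∃ y, y = f.fiberι (f x) (f.asFiber x) := ⟨_, rfl⟩
  have hflat' : (f.stalkMap y).hom.Flat := by rw [hy, hxx]; exact hflat
  have hker : RingHom.ker π.hom = Ideal.map (f.stalkMap (f.fiberι (f x) (f.asFiber x))).hom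
      (IsLocalRing.maximalIdeal (S.presheaf.stalk (f (f.fiberι (f x) (f.asFiber x))))) :=
    ker_stalkMap_fiberι f (f x) (f.asFiber x)
  haveI : IsLocalHom π.hom := inferInstance
  subst hy
  obtain ⟨V, U, hV, hU, e, hxU, n, b, hb, hbm, hfl⟩ := exists_slice f _ hflat' hs₀
    (fun a ha hu => by
      have h := hrsm (π.hom a) (by rw [← hs₀e]; exact List.mem_map_of_mem ha)
      exact h (hu.map π.hom))
    (by
      have h := isWeaklyRegular_ringEquiv
        ((RingHom.quotientKerEquivOfSurjective hπ).symm.trans (Ideal.quotEquivOfEq hker)) hrs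
      rw [← hs₀e, List.map_map] at h
      refine (congrArg (RingTheory.Sequence.IsWeaklyRegular _) (List.map_congr_left fun c _ => ?_)).mp h
      show Ideal.quotEquivOfEq hker ((RingHom.quotientKerEquivOfSurjective hπ).symm (π.hom c)) = _
      rw [RingHom.quotientKerEquivOfSurjective_symm_apply, Ideal.quotEquivOfEq_mk])
  have hx : x ∈ U := hxx ▸ hxU
  let J := Ideal.span (Set.range b)
  let Zm := Spec.map (CommRingCat.ofHom (Ideal.Quotient.mk J)) ≫ hU.fromSpec
  haveI : IsClosedImmersion (Spec.map (CommRingCat.ofHom (Ideal.Quotient.mk J))) :=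
    IsClosedImmersion.spec_of_surjective _ Ideal.Quotient.mk_surjective
  haveI : IsImmersion Zm := inferInstance
  let g := Zm ≫ f
  haveI : LocallyOfFiniteType g := inferInstance
  have hmem : x ∈ Set.range Zm := by
    have := mem_range_slice hU b J rfl hxU hbm
    rwa [hxx] at this
  obtain ⟨z₀, hz₀⟩ := hmem
  have hgen : ∀ x' ∈ Set.range Zm, f x' = f x → x' ⤳ x → x' = x := fun x' hx' h1 h2 =>
    eq_of_specializes_of_mem_slice f hU b J rfl hx (fun p hp hpb => hprim p hp (Ideal.span_le.mpr fun r hr => by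
      have hr' : r ∈ hs₀.map π.hom := by rw [hs₀e]; exact hr
      rw [← hb, List.map_map, List.map_ofFn] at hr'
      obtain ⟨i, rfl⟩ : ∃ i, _ = r := List.mem_ofFn.mp hr'
      exact hpb i)) hx' h1 h2
  have hgz : g z₀ = f x := by rw [Scheme.Hom.comp_apply, hz₀]
  have hqf : g.QuasiFiniteAt z₀ := by
    rw [Scheme.Hom.quasiFiniteAt_iff_isOpen_singleton_asFiber]
    haveI : LocallyOfFiniteType (g.fiberToSpecResidueField (g z₀)) := MorphismProperty.pullback_snd _ _ ‹LocallyOfFiniteType g›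
    haveI : IsLocallyNoetherian (g.fiber (g z₀)) :=
      LocallyOfFiniteType.isLocallyNoetherian (g.fiberToSpecResidueField (g z₀))
    have hval : ∀ w : g.fiber (g z₀), f (Zm (g.fiberι (g z₀) w)) = f x := fun w => by
      rw [← Scheme.Hom.comp_apply Zm f, ← hgz]
      exact (g.range_fiberι (g z₀)).le ⟨w, rfl⟩
    have heq : ∀ w : g.fiber (g z₀), Zm (g.fiberι (g z₀) w) = x → w = g.asFiber z₀ := fun w hw => by
      apply (g.fiberι (g z₀)).isEmbedding.injective
      rw [Scheme.Hom.fiberι_asFiber]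
      exact Zm.isEmbedding.injective (hw.trans hz₀.symm)
    refine isOpen_singleton_of_minimal _ ?_ fun w hw => heq w (hgen _ ⟨_, rfl⟩ (hval w) ?_)
    · refine closure_subset_iff_isClosed.mp fun w hw => ?_
      have hsp : Zm (g.fiberι (g z₀) (g.asFiber z₀)) ⤳ Zm (g.fiberι (g z₀) w) :=
        ((specializes_iff_mem_closure.mpr hw).map (g.fiberι (g z₀)).continuous).map Zm.continuous
      rw [Scheme.Hom.fiberι_asFiber, hz₀] at hsp
      let v : f.fiber (f x) := (f.fiberHomeo (f x)).symm ⟨_, hval w⟩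
      have hv : f.fiberι (f x) v = Zm (g.fiberι (g z₀) w) := f.fiberι_fiberHomeo_symm (f x) _
      have : f.asFiber x ⤳ v := (f.fiberι (f x)).isEmbedding.isInducing.specializes_iff.mp (by rwa [hxx, hv])
      have hv' : v = f.asFiber x := by
        have := this.mem_closed hcl rfl
        exact this
      rw [hv', hxx] at hv
      exact heq w hv.symm
    · have := (hw.map (g.fiberι (g z₀)).continuous).map Zm.continuous
      rwa [Scheme.Hom.fiberι_asFiber, hz₀] at this
  obtain ⟨W₀, hzW₀, hW₀⟩ := (Groth.FibrewiseCrit.exists_nhd_locallyQuasiFinite_iff g z₀).mpr hqf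
  have hiso := Scheme.Hom.quasiFiniteAt_iff_isOpen_singleton_asFiber.mp hqf
  obtain ⟨O₁, hO₁, hO₁e⟩ := (g.fiberι (g z₀)).isEmbedding.isInducing.isOpen_iff.mp hiso
  obtain ⟨O, hO, hOe⟩ := Zm.isEmbedding.isInducing.isOpen_iff.mp (W₀.2.inter hO₁)
  have hz₁ : z₀ ∈ W₀.carrier ∩ O₁ := ⟨hzW₀, by
    have : g.asFiber z₀ ∈ (g.fiberι (g z₀)) ⁻¹' O₁ := by rw [hO₁e]; exact rfl
    rwa [Set.mem_preimage, Scheme.Hom.fiberι_asFiber] at this⟩
  rw [← hOe, Set.mem_preimage, hz₀] at hz₁
  obtain ⟨c, hc, hxc⟩ := hU.exists_basicOpen_le (V := ⟨O, hO⟩) ⟨x, hz₁⟩ hx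
  let U' := X.basicOpen c
  let res := X.presheaf.map (homOfLE (X.basicOpen_le c : U' ≤ U)).op
  let b' : Fin n → Γ(X, U') := fun i => res (b i)
  let J' := Ideal.span (Set.range b')
  let Zm' := Spec.map (CommRingCat.ofHom (Ideal.Quotient.mk J')) ≫ (hU.basicOpen c).fromSpec
  haveI : IsClosedImmersion (Spec.map (CommRingCat.ofHom (Ideal.Quotient.mk J'))) :=
    IsClosedImmersion.spec_of_surjective _ Ideal.Quotient.mk_surjective
  let ρ : Γ(X, U) ⧸ J →+* Γ(X, U') ⧸ J' := Ideal.quotientMap J' res.hom (Ideal.map_le_iff_le_comap.mp (by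
    rw [Ideal.map_span, ← Set.range_comp]; exact le_rfl))
  let k : Spec (CommRingCat.of (Γ(X, U') ⧸ J')) ⟶ Spec (CommRingCat.of (Γ(X, U) ⧸ J)) := Spec.map (CommRingCat.ofHom ρ)
  have hk : k ≫ Zm = Zm' := by
    show Spec.map _ ≫ Spec.map _ ≫ _ = Spec.map _ ≫ _
    rw [← hU.map_fromSpec (hU.basicOpen c) (homOfLE (X.basicOpen_le c : U' ≤ U)).op, ← Spec.map_comp_assoc,
      ← Spec.map_comp_assoc]
    rfl
  have hrange' : ∀ w, Zm' w ∈ U' := fun w => by
    show Zm' w ∈ (U' : Set X)
    rw [← (hU.basicOpen c).range_fromSpec]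
    exact ⟨_, (Scheme.Hom.comp_apply _ _ _).symm⟩
  have hkO : ∀ w, k w ∈ W₀.carrier ∩ O₁ := fun w => by
    rw [← hOe, Set.mem_preimage, ← Scheme.Hom.comp_apply, hk]
    exact hc (hrange' w)
  let k₀ := IsOpenImmersion.lift W₀.ι k (by
    rintro _ ⟨w, rfl⟩
    rw [Scheme.Opens.range_ι]
    exact (hkO w).1)
  have hk₀ : k₀ ≫ W₀.ι = k := IsOpenImmersion.lift_fac _ _ _
  haveI : IsImmersion Zm' := inferInstance
  haveI : LocallyQuasiFinite k₀ := by
    haveI : LocallyQuasiFinite (k₀ ≫ (W₀.ι ≫ Zm)) := by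
      rw [← Category.assoc, hk₀, hk]
      infer_instance
    exact LocallyQuasiFinite.of_comp k₀ (W₀.ι ≫ Zm)
  refine ⟨V, U', hV, hU.basicOpen c, (X.basicOpen_le c).trans e, n, b', flat_eval₂Hom_basicOpen f hU e b hfl c, ?_, ?_, ?_⟩
  · refine mem_range_slice (hU.basicOpen c) b' J' rfl hxc fun i => ?_
    show X.presheaf.germ U' x hxc (res (b i)) ∈ _
    rw [TopCat.Presheaf.germ_res_apply]
    have tr : ∀ (y : X) (hy : y ∈ U), y = x → X.presheaf.germ U y hy (b i) ∈ IsLocalRing.maximalIdeal _ →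
        X.presheaf.germ U x hx (b i) ∈ IsLocalRing.maximalIdeal _ := by
      rintro y hy rfl h
      exact h
    exact tr _ hxU hxx (hbm i)
  · have hcomp : k₀ ≫ (W₀.ι ≫ g) = Spec.map (CommRingCat.ofHom (Ideal.Quotient.mk J')) ≫ (hU.basicOpen c).fromSpec ≫ f := by
      rw [← Category.assoc, hk₀, ← Category.assoc, hk, Category.assoc]
    haveI := hW₀
    show LocallyQuasiFinite (Spec.map (CommRingCat.ofHom (Ideal.Quotient.mk J')) ≫ (hU.basicOpen c).fromSpec ≫ f)
    rw [← hcomp]
    infer_instance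
  · rintro _ ⟨w, rfl⟩ hw
    change f (Zm' w) = f x at hw
    show Zm' w = x
    rw [← hk, Scheme.Hom.comp_apply] at hw ⊢
    have hgw : g (k w) = g z₀ := by rw [Scheme.Hom.comp_apply, hgz]; exact hw
    let v : g.fiber (g z₀) := (g.fiberHomeo (g z₀)).symm ⟨k w, hgw⟩
    have hv : g.fiberι (g z₀) v = k w := g.fiberι_fiberHomeo_symm (g z₀) _
    have : v ∈ (g.fiberι (g z₀)) ⁻¹' O₁ := by rw [Set.mem_preimage, hv]; exact (hkO w).2
    rw [hO₁e, Set.mem_singleton_iff] at this
    rw [this, Scheme.Hom.fiberι_asFiber] at hv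
    rw [← hv, hz₀]

end Groth.FlatDescent.Slicing
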