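import Groth.Agent.FlatDescent.Slicing.Open

/-!
# Base change of flatness over affine space
-/

universe u

open CategoryTheory MvPolynomial

namespace Groth.FlatDescent.Slicing

/-- Flatness over affine space is stable under base change. -/
theorem flat_eval₂Hom_baseChange {R R' B Cc : CommRingCat.{u}} {α : R ⟶ B} {ρ : R ⟶ R'} {γ : B ⟶ Cc} {β : R' ⟶ Cc}
    (h : IsPushout α ρ γ β) {n : ℕ} (b : Fin n → B) (hflat : (eval₂Hom α.hom b).Flat) :
    (eval₂Hom β.hom fun i => γ (b i)).Flat := by
  letI : Algebra R R' := ρ.hom.toAlgebra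
  letI : Algebra R B := α.hom.toAlgebra
  letI : Algebra R' Cc := β.hom.toAlgebra
  letI : Algebra B Cc := γ.hom.toAlgebra
  letI : Algebra R Cc := (γ.hom.comp α.hom).toAlgebra
  haveI : IsScalarTower R B Cc := IsScalarTower.of_algebraMap_eq fun _ => rfl
  haveI : IsScalarTower R R' Cc := IsScalarTower.of_algebraMap_eq fun r => (ConcreteCategory.congr_hom h.w r)
  haveI hP : Algebra.IsPushout R R' B Cc := CommRingCat.isPushout_iff_isPushout.mp h.flip
  letI : Algebra (MvPolynomial (Fin n) R) B := (eval₂Hom α.hom b).toAlgebra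
  letI : Algebra (MvPolynomial (Fin n) R') Cc := (eval₂Hom β.hom fun i => γ (b i)).toAlgebra
  letI : Algebra (MvPolynomial (Fin n) R) (MvPolynomial (Fin n) R') := MvPolynomial.algebraMvPolynomial
  letI : Algebra (MvPolynomial (Fin n) R) Cc := (γ.hom.comp (eval₂Hom α.hom b)).toAlgebra
  haveI : IsScalarTower (MvPolynomial (Fin n) R) B Cc := IsScalarTower.of_algebraMap_eq fun _ => rfl
  haveI : IsScalarTower (MvPolynomial (Fin n) R) (MvPolynomial (Fin n) R') Cc :=
    IsScalarTower.of_algebraMap_eq' (MvPolynomial.ringHom_ext (fun r => by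
      show γ.hom (eval₂Hom α.hom b (MvPolynomial.C r)) = eval₂Hom β.hom _ (MvPolynomial.map ρ.hom (MvPolynomial.C r))
      rw [map_C, eval₂Hom_C, eval₂Hom_C]
      exact ConcreteCategory.congr_hom h.w r) fun i => by
      show γ.hom (eval₂Hom α.hom b (X i)) = eval₂Hom β.hom _ (MvPolynomial.map ρ.hom (X i))
      rw [map_X, eval₂Hom_X', eval₂Hom_X'])
  haveI : IsScalarTower R (MvPolynomial (Fin n) R) B := IsScalarTower.of_algebraMap_eq fun r => (eval₂Hom_C α.hom b r).symm
  haveI : IsScalarTower R' (MvPolynomial (Fin n) R') Cc := IsScalarTower.of_algebraMap_eq fun r => (eval₂Hom_C β.hom _ r).symm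
  haveI : IsScalarTower R (MvPolynomial (Fin n) R') Cc := IsScalarTower.of_algebraMap_eq fun r => by
    rw [IsScalarTower.algebraMap_apply R R' (MvPolynomial (Fin n) R'), IsScalarTower.algebraMap_apply R R' Cc,
      IsScalarTower.algebraMap_apply R' (MvPolynomial (Fin n) R') Cc]
  haveI : IsScalarTower R (MvPolynomial (Fin n) R) Cc := IsScalarTower.of_algebraMap_eq fun r =>
    congrArg γ.hom (eval₂Hom_C α.hom b r).symm
  haveI : Algebra.IsPushout R (MvPolynomial (Fin n) R) R' (MvPolynomial (Fin n) R') := inferInstance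
  haveI : Algebra.IsPushout (MvPolynomial (Fin n) R) B (MvPolynomial (Fin n) R') Cc :=
    (Algebra.IsPushout.comp_iff (R := R) (S := MvPolynomial (Fin n) R) (T := B) (R' := R') (S' := MvPolynomial (Fin n) R')).mp hP.symm
  haveI : Module.Flat (MvPolynomial (Fin n) R) B := hflat
  exact Module.Flat.isBaseChange (MvPolynomial (Fin n) R) (MvPolynomial (Fin n) R') B Cc
    (Algebra.IsPushout.out (R := MvPolynomial (Fin n) R) (S := MvPolynomial (Fin n) R') (R' := B) (S' := Cc)
      (self := Algebra.IsPushout.symm inferInstance))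

end Groth.FlatDescent.Slicing
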