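import Groth.Agent.FlatDescent.Slicing.Scheme
import Groth.Agent.RegSeq.Imm

/-!
# The closed subscheme of a slice
-/

universe u

open CategoryTheory CategoryTheory.Limits AlgebraicGeometry MvPolynomial

namespace Groth.FlatDescent.Slicing

variable {X S : Scheme.{u}}

theorem ker_appTop_slice {U : X.Opens} (hU : IsAffineOpen U) (J : Ideal Γ(X, U)) :
    RingHom.ker (Spec.map (CommRingCat.ofHom (Ideal.Quotient.mk J)) ≫ hU.isoSpec.inv).appTop.hom =
      J.comap U.topIso.hom.hom := by
  have h : (Spec.map (CommRingCat.ofHom (Ideal.Quotient.mk J)) ≫ hU.isoSpec.inv).appTop =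
      U.topIso.hom ≫ CommRingCat.ofHom (Ideal.Quotient.mk J) ≫ (Scheme.ΓSpecIso _).inv := by
    rw [Scheme.Hom.comp_appTop, IsAffineOpen.isoSpec_inv_appTop, Category.assoc]
    congr 1
    exact (Scheme.ΓSpecIso_inv_naturality _).symm
  rw [h]
  ext a
  show (Scheme.ΓSpecIso (CommRingCat.of (Γ(X, U) ⧸ J))).inv (Ideal.Quotient.mk J (U.topIso.hom a)) = 0 ↔ U.topIso.hom a ∈ J
  rw [map_eq_zero_iff _ (ConcreteCategory.bijective_of_isIso _).1, Ideal.Quotient.eq_zero_iff_mem]

variable (f : X ⟶ S) {V : S.Opens} {U : X.Opens} (hV : IsAffineOpen V) (hU : IsAffineOpen U) (e : U ≤ f ⁻¹ᵁ V)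
  {n : ℕ} (b : Fin n → Γ(X, U)) (hflat : (eval₂Hom (f.appLE V U e).hom b).Flat)
  (J : Ideal Γ(X, U)) (hJ : J = Ideal.span (Set.range b))

include e in
theorem top_le : (⊤ : Scheme.Opens (U : Scheme.{u})) ≤ (U.ι ≫ f) ⁻¹ᵁ V := fun z _ => e z.2

include hflat in
theorem flat_eval₂Hom_top :
    (eval₂Hom ((U.ι ≫ f).appLE V ⊤ (top_le f e)).hom fun i => U.topIso.inv (b i)).Flat := by
  convert RingHom.Flat.comp hflat
    (RingHom.Flat.of_bijective (f := U.topIso.inv.hom) (ConcreteCategory.bijective_of_isIso U.topIso.inv)) using 1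
  have h : (U.ι ≫ f).appLE V ⊤ (top_le f e) = f.appLE V U e ≫ U.topIso.inv := by
    have h2 : U.topIso.inv = U.ι.appLE U ⊤ (fun z _ => z.2) := by
      rw [Scheme.Opens.ι_appLE, Scheme.Opens.topIso_inv]
      rfl
    rw [h2, Scheme.Hom.appLE_comp_appLE]
  refine MvPolynomial.ringHom_ext (fun r => ?_) fun i => ?_
  · rw [eval₂Hom_C, RingHom.comp_apply, eval₂Hom_C, h]
    rfl
  · rw [eval₂Hom_X', RingHom.comp_apply, eval₂Hom_X']

include hJ in
theorem ker_appTop_eq_span :
    RingHom.ker (Spec.map (CommRingCat.ofHom (Ideal.Quotient.mk J)) ≫ hU.isoSpec.inv).appTop.hom =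
      Ideal.span (Set.range fun i => U.topIso.inv (b i)) := by
  rw [ker_appTop_slice hU J]
  have h : J.comap U.topIso.hom.hom = J.map U.topIso.inv.hom :=
    (Ideal.map_symm (I := J) U.topIso.commRingCatIsoToRingEquiv).symm
  rw [h, hJ, Ideal.map_span, ← Set.range_comp]
  rfl

include e hflat hJ in
/-- The slice is a regular closed immersion. -/
theorem isRegularClosedImmersion_slice :
    Mor2.IsRegularClosedImmersion (Spec.map (CommRingCat.ofHom (Ideal.Quotient.mk J)) ≫ hU.isoSpec.inv) := by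
  haveI : IsAffine (U : Scheme.{u}) := hU
  haveI : IsClosedImmersion (Spec.map (CommRingCat.ofHom (Ideal.Quotient.mk J))) :=
    IsClosedImmersion.spec_of_surjective _ Ideal.Quotient.mk_surjective
  refine isRegularClosedImmersion_of_flat _ fun z =>
    ⟨⊤, isAffineOpen_top _, trivial, n, _, inferInstance, _, flat_eval₂Hom_top f e b hflat, ?_⟩
  simp only [eval₂Hom_X']
  rw [Scheme.Hom.ker_apply]
  exact ker_appTop_eq_span hU b J hJ

include hV e hflat hJ in
/-- The slice stays regular after any base change. -/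
theorem isRegularClosedImmersion_slice_baseChange {S' : Scheme.{u}} (g : S' ⟶ S) :
    Mor2.IsRegularClosedImmersion
      (pullback.map (Spec.map (CommRingCat.ofHom (Ideal.Quotient.mk J)) ≫ hU.isoSpec.inv ≫ U.ι ≫ f) g (U.ι ≫ f) g
        (Spec.map (CommRingCat.ofHom (Ideal.Quotient.mk J)) ≫ hU.isoSpec.inv) (𝟙 S') (𝟙 S)
          (Category.comp_id _) ((Category.comp_id g).trans (Category.id_comp g).symm)) := by
  haveI : IsAffine (U : Scheme.{u}) := hU
  haveI : IsClosedImmersion (Spec.map (CommRingCat.ofHom (Ideal.Quotient.mk J))) :=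
    IsClosedImmersion.spec_of_surjective _ Ideal.Quotient.mk_surjective
  let i := Spec.map (CommRingCat.ofHom (Ideal.Quotient.mk J)) ≫ hU.isoSpec.inv
  let h := U.ι ≫ f
  let h' := Spec.map (CommRingCat.ofHom (Ideal.Quotient.mk J)) ≫ hU.isoSpec.inv ≫ U.ι ≫ f
  let j : pullback h' g ⟶ pullback h g :=
    pullback.map h' g h g i (𝟙 S') (𝟙 S) (by simp [h', i, h]) ((Category.comp_id g).trans (Category.id_comp g).symm)
  have hh' : h' = i ≫ h := by simp [h', i, h]
  have outer : IsPullback (pullback.fst h' g) (j ≫ pullback.snd h g) (i ≫ h) g := by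
    rw [← hh']
    have : j ≫ pullback.snd h g = pullback.snd h' g := (pullback.lift_snd _ _ _).trans (Category.comp_id _)
    rw [this]
    exact IsPullback.of_hasPullback h' g
  have hsq : IsPullback (pullback.fst h' g) j i (pullback.fst h g) :=
    IsPullback.of_bot outer (pullback.lift_fst _ _ _).symm (IsPullback.of_hasPullback h g)
  haveI : IsClosedImmersion j := MorphismProperty.of_isPullback hsq inferInstance
  change Mor2.IsRegularClosedImmersion j
  refine isRegularClosedImmersion_of_flat j fun z => ?_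
  let y := j z
  have hy : g (pullback.snd h g y) ∈ V := by
    rw [← Scheme.Hom.comp_apply, ← pullback.condition, Scheme.Hom.comp_apply]
    exact e (pullback.fst h g y).2
  obtain ⟨_, ⟨W, hW, rfl⟩, hyW, hWV⟩ := S'.isBasis_affineOpens.exists_subset_of_mem_open hy (g ⁻¹ᵁ V).2
  let O : (pullback h g).Opens := (pullback.fst h g) ⁻¹ᵁ ⊤ ⊓ (pullback.snd h g) ⁻¹ᵁ W
  have H := IsPullback.of_hasPullback h g
  have hO : IsAffineOpen O := by
    haveI : IsAffine V.toScheme := hV
    haveI : IsAffine W := hW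
    haveI : IsAffine (⊤ : Scheme.Opens (U : Scheme.{u})).toScheme := isAffineOpen_top _
    exact .of_isIso (Scheme.Hom.isPullback_resLE H hWV (top_le f e) (rfl : O = _)).isoPullback.hom
  have hle : O ≤ (pullback.fst h g) ⁻¹ᵁ ⊤ := inf_le_left
  have hpush := (isIso_pushoutSection_iff H hWV (top_le f e) (rfl : O = _)).mp
    (isIso_pushoutSection_of_isAffineOpen H hWV (top_le f e) (rfl : O = _) hV hW (isAffineOpen_top _))
  have hfl := flat_eval₂Hom_baseChange hpush (fun i => U.topIso.inv (b i)) (flat_eval₂Hom_top f e b hflat)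
  refine ⟨O, hO, ⟨trivial, hyW⟩, n, _, inferInstance, _, hfl, ?_⟩
  simp only [eval₂Hom_X']
  haveI : IsClosedImmersion (i ∣_ ⊤) := IsZariskiLocalAtTarget.restrict (inferInstanceAs (IsClosedImmersion i)) ⊤
  rw [Scheme.Hom.ker_apply, (Groth.Agent.RegSeq.restrict_baseChange hsq (isAffineOpen_top _) hO hle).2]
  show (RingHom.ker i.appTop.hom).map _ = _
  rw [ker_appTop_eq_span hU b J hJ, Ideal.map_span, ← Set.range_comp]
  rfl

include hV e hflat hJ in
/-- The slice is flat over the base. -/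
theorem flat_slice :
    Flat (Spec.map (CommRingCat.ofHom (Ideal.Quotient.mk J)) ≫ hU.fromSpec ≫ f) := by
  rw [← IsAffineOpen.SpecMap_appLE_fromSpec f hV hU e, ← Spec.map_comp_assoc]
  haveI : Flat (Spec.map (f.appLE V U e ≫ CommRingCat.ofHom (Ideal.Quotient.mk J))) := by
    rw [HasRingHomProperty.Spec_iff (P := @Flat)]
    have h := flat_quotient_of_flat (eval₂Hom (f.appLE V U e).hom b) hflat J (by
      rw [hJ]; simp only [eval₂Hom_X'])
    have hh : (f.appLE V U e ≫ CommRingCat.ofHom (Ideal.Quotient.mk J)).hom =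
        (Ideal.Quotient.mk J).comp ((eval₂Hom (f.appLE V U e).hom b).comp MvPolynomial.C) :=
      RingHom.ext fun r => congrArg (Ideal.Quotient.mk J) (eval₂Hom_C (f.appLE V U e).hom b r).symm
    exact hh ▸ h
  infer_instance

include hV e hJ in
/-- The slice is locally of finite presentation over the base. -/
theorem lfp_slice [LocallyOfFinitePresentation f] :
    LocallyOfFinitePresentation (Spec.map (CommRingCat.ofHom (Ideal.Quotient.mk J)) ≫ hU.fromSpec ≫ f) := by
  rw [← IsAffineOpen.SpecMap_appLE_fromSpec f hV hU e, ← Spec.map_comp_assoc]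
  haveI : LocallyOfFinitePresentation (Spec.map (f.appLE V U e ≫ CommRingCat.ofHom (Ideal.Quotient.mk J))) := by
    rw [HasRingHomProperty.Spec_iff (P := @LocallyOfFinitePresentation)]
    refine RingHom.FinitePresentation.comp_surjective
      (HasRingHomProperty.appLE @LocallyOfFinitePresentation f inferInstance ⟨V, hV⟩ ⟨U, hU⟩ e)
      Ideal.Quotient.mk_surjective ?_
    show (RingHom.ker (Ideal.Quotient.mk J)).FG
    rw [Ideal.mk_ker, hJ]
    exact Submodule.fg_span (Set.finite_range b)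
  infer_instance

include hJ in
/-- The point is on the slice. -/
theorem mem_range_slice {x : X} (hx : x ∈ U)
    (hb : ∀ i, X.presheaf.germ U x hx (b i) ∈ IsLocalRing.maximalIdeal (X.presheaf.stalk x)) :
    x ∈ Set.range (Spec.map (CommRingCat.ofHom (Ideal.Quotient.mk J)) ≫ hU.fromSpec) := by
  let Q := hU.primeIdealOf ⟨x, hx⟩
  letI := X.presheaf.algebra_section_stalk (U := U) ⟨x, hx⟩
  haveI := hU.isLocalization_stalk ⟨x, hx⟩
  have hle : J ≤ Q.asIdeal := by
    rw [hJ, Ideal.span_le]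
    rintro _ ⟨i, rfl⟩
    exact (IsLocalization.AtPrime.to_map_mem_maximal_iff (X.presheaf.stalk x) Q.asIdeal (b i)).mp (hb i)
  obtain ⟨q, hq⟩ : Q ∈ Set.range (PrimeSpectrum.comap (Ideal.Quotient.mk J)) := by
    rw [range_comap_of_surjective _ (f := Ideal.Quotient.mk J) Ideal.Quotient.mk_surjective, Ideal.mk_ker]
    exact (PrimeSpectrum.mem_zeroLocus Q (J : Set Γ(X, U))).mpr hle
  refine ⟨q, ?_⟩
  rw [Scheme.Hom.comp_apply]
  exact (congrArg hU.fromSpec hq).trans (hU.fromSpec_primeIdealOf ⟨x, hx⟩)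

end Groth.FlatDescent.Slicing
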