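import Groth.Agent.FlatDescent.Local

/-!
# A regular sequence in a Noetherian local algebra over a field gives a flat map to affine space
-/

universe u

open TensorProduct MvPolynomial

namespace Groth.FlatDescent.Slicing

/-- `K[X₀, …, Xₙ] / (X₀) ≅ K[X₁, …, Xₙ]`. -/
theorem exists_quotient_zero {K : Type u} [CommRing K] (n : ℕ) :
    ∃ χ : MvPolynomial (Fin (n + 1)) K ⧸ Ideal.span {(X 0 : MvPolynomial (Fin (n + 1)) K)} →+* MvPolynomial (Fin n) K,
      Function.Bijective χ ∧ (∀ r, χ (Ideal.Quotient.mk _ (C r)) = C r) ∧ χ (Ideal.Quotient.mk _ (X 0)) = 0 ∧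
        ∀ i : Fin n, χ (Ideal.Quotient.mk _ (X i.succ)) = X i := by
  let I := Ideal.span {(X 0 : MvPolynomial (Fin (n + 1)) K)}
  let e : MvPolynomial (Fin (n + 1)) K →+* MvPolynomial (Fin n) K := eval₂Hom C (Fin.cons 0 X)
  have e0 : e (X 0) = 0 := (eval₂Hom_X' _ _ _).trans (Fin.cons_zero _ _)
  have eS : ∀ i : Fin n, e (X i.succ) = X i := fun i => (eval₂Hom_X' _ _ _).trans (Fin.cons_succ _ _ _)
  have eC : ∀ r, e (C r) = C r := fun r => eval₂Hom_C _ _ r
  let χ : MvPolynomial (Fin (n + 1)) K ⧸ I →+* MvPolynomial (Fin n) K := Ideal.Quotient.lift I e (fun a ha => by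
      obtain ⟨b, rfl⟩ := Ideal.mem_span_singleton'.mp ha
      rw [map_mul, e0, mul_zero])
  let σ : MvPolynomial (Fin n) K →+* MvPolynomial (Fin (n + 1)) K ⧸ I :=
    eval₂Hom ((Ideal.Quotient.mk I).comp C) fun i => Ideal.Quotient.mk I (X i.succ)
  have σC : ∀ r, σ (C r) = Ideal.Quotient.mk I (C r) := fun r => eval₂Hom_C _ _ r
  have σX : ∀ i, σ (X i) = Ideal.Quotient.mk I (X i.succ) := fun i => eval₂Hom_X' _ _ i
  have h1 : σ.comp χ = RingHom.id _ := by
    refine Ideal.Quotient.ringHom_ext (MvPolynomial.ringHom_ext (fun r => ?_) fun i => ?_)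
    · show σ (e (C r)) = Ideal.Quotient.mk I (C r)
      rw [eC, σC]
    · show σ (e (X i)) = Ideal.Quotient.mk I (X i)
      refine Fin.cases ?_ (fun j => ?_) i
      · rw [e0, map_zero]
        exact (Ideal.Quotient.eq_zero_iff_mem.mpr (Ideal.mem_span_singleton_self _)).symm
      · rw [eS, σX]
  have h2 : χ.comp σ = RingHom.id _ := by
    refine MvPolynomial.ringHom_ext (fun r => ?_) fun i => ?_
    · show χ (σ (C r)) = C r
      rw [σC]; exact eC r
    · show χ (σ (X i)) = X i
      rw [σX]; exact eS i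
  exact ⟨χ, ⟨Function.LeftInverse.injective (g := σ) (RingHom.congr_fun h1),
    Function.RightInverse.surjective (g := σ) (RingHom.congr_fun h2)⟩, eC, e0, eS⟩

/-- A regular sequence in the maximal ideal of a Noetherian local algebra over a field defines a flat map
`K[X₁, …, Xₙ] → T`. -/
theorem flat_eval₂Hom_of_regular {K : Type u} [Field K] :
    ∀ (n : ℕ) {T : Type u} [CommRing T] [IsLocalRing T] [IsNoetherianRing T] (ψ : K →+* T) (t : Fin n → T),
      (∀ i, t i ∈ IsLocalRing.maximalIdeal T) → RingTheory.Sequence.IsWeaklyRegular T (List.ofFn t) →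
      (eval₂Hom ψ t).Flat := by
  intro n
  induction n with
  | zero =>
    intro T _ _ _ ψ t _ _
    let e := (RingEquiv.ofBijective (C : K →+* MvPolynomial (Fin 0) K)
      ⟨C_injective _ _, C_surjective _⟩).symm
    have h : eval₂Hom ψ t = ψ.comp (e : MvPolynomial (Fin 0) K →+* K) := by
      refine MvPolynomial.ringHom_ext (fun r => ?_) fun i => i.elim0
      rw [eval₂Hom_C, RingHom.comp_apply]
      exact congrArg ψ ((RingEquiv.symm_apply_apply _ r).symm)
    rw [h]
    letI := ψ.toAlgebra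
    exact RingHom.Flat.comp (RingHom.Flat.of_bijective e.bijective) (inferInstanceAs (Module.Flat K T))
  | succ n ih =>
    intro T _ _ _ ψ t ht hreg
    rw [List.ofFn_succ, RingTheory.Sequence.isWeaklyRegular_cons_iff'] at hreg
    obtain ⟨hreg0, hregs⟩ := hreg
    let R₀ := MvPolynomial (Fin (n + 1)) K
    let φ : R₀ →+* T := eval₂Hom ψ t
    letI : Algebra R₀ T := φ.toAlgebra
    have hφ : ∀ i, algebraMap R₀ T (X i) = t i := fun i => eval₂Hom_X' ψ t i
    let I : Ideal R₀ := Ideal.span {X 0}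
    let J : Ideal T := Ideal.span {t 0}
    have hJle : J ≤ IsLocalRing.maximalIdeal T := (Ideal.span_singleton_le_iff_mem _).mpr (ht 0)
    haveI : Nontrivial (T ⧸ J) :=
      Ideal.Quotient.nontrivial_iff.mpr fun h => (IsLocalRing.maximalIdeal.isMaximal T).ne_top (top_unique (h ▸ hJle))
    haveI : IsLocalRing (T ⧸ J) := IsLocalRing.of_surjective' (Ideal.Quotient.mk J) Ideal.Quotient.mk_surjective
    let t' : Fin n → T ⧸ J := fun i => Ideal.Quotient.mk J (t i.succ)
    have ht' : ∀ i, t' i ∈ IsLocalRing.maximalIdeal (T ⧸ J) := fun i => by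
      haveI : IsLocalHom (Ideal.Quotient.mk J) := IsLocalHom.of_surjective _ Ideal.Quotient.mk_surjective
      exact fun hu => ht i.succ ((isUnit_map_iff (Ideal.Quotient.mk J) _).mp hu)
    have hreg' : RingTheory.Sequence.IsWeaklyRegular (T ⧸ J) (List.ofFn t') := by
      have e : QuotSMulTop (t 0) T ≃ₗ[T ⧸ J] T ⧸ J :=
        LinearEquiv.extendScalarsOfSurjective (R := T) (S := T ⧸ J) Ideal.Quotient.mk_surjective
          (Submodule.quotEquivOfEq _ _ (by
            rw [← Submodule.ideal_span_singleton_smul, smul_eq_mul, Ideal.mul_top]))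
      have h2 := (e.isWeaklyRegular_congr _).mp hregs
      rwa [List.map_ofFn] at h2
    have hflat' := ih ((Ideal.Quotient.mk J).comp ψ) t' ht' hreg'
    have hIJ : I.map φ = J := by
      show (Ideal.span {X 0}).map φ = _
      rw [Ideal.map_span, Set.image_singleton]
      exact congrArg (fun a => Ideal.span {a}) (hφ 0)
    obtain ⟨χ, hχ, χC, χ0, χS⟩ := exists_quotient_zero (K := K) n
    let θ : R₀ ⧸ I →+* T ⧸ J := Ideal.quotientMap J φ (hIJ ▸ Ideal.le_comap_map)
    have hθ : θ.Flat := by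
      have : θ = (eval₂Hom ((Ideal.Quotient.mk J).comp ψ) t').comp χ := by
        refine Ideal.Quotient.ringHom_ext (MvPolynomial.ringHom_ext (fun r => ?_) fun i => ?_)
        · show Ideal.Quotient.mk J (φ (C r)) = eval₂Hom ((Ideal.Quotient.mk J).comp ψ) t' (χ (Ideal.Quotient.mk I (C r)))
          rw [χC, eval₂Hom_C, eval₂Hom_C]
          rfl
        · show Ideal.Quotient.mk J (φ (X i)) = eval₂Hom ((Ideal.Quotient.mk J).comp ψ) t' (χ (Ideal.Quotient.mk I (X i)))
          rw [eval₂Hom_X']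
          refine Fin.cases ?_ (fun j => ?_) i
          · rw [χ0, map_zero]
            exact Ideal.Quotient.eq_zero_iff_mem.mpr (Ideal.mem_span_singleton_self _)
          · rw [χS, eval₂Hom_X']
      rw [this]
      exact RingHom.Flat.comp (RingHom.Flat.of_bijective hχ) hflat'
    haveI : Module.Flat (R₀ ⧸ I) ((R₀ ⧸ I) ⊗[R₀] T) := by
      letI : Algebra (R₀ ⧸ I) (T ⧸ J) := θ.toAlgebra
      haveI : IsScalarTower R₀ (R₀ ⧸ I) (T ⧸ J) := ⟨fun r x y => by
        obtain ⟨x, rfl⟩ := Ideal.Quotient.mk_surjective x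
        obtain ⟨y, rfl⟩ := Ideal.Quotient.mk_surjective y
        show Ideal.Quotient.mk J (φ (r * x) * y) = Ideal.Quotient.mk J (φ r * (φ x * y))
        rw [map_mul φ, mul_assoc]⟩
      haveI : Module.Flat (R₀ ⧸ I) (T ⧸ J) := hθ
      have hsub : (I • ⊤ : Submodule R₀ T) = J.restrictScalars R₀ := by
        rw [Ideal.smul_top_eq_map]
        exact congrArg (Submodule.restrictScalars R₀) hIJ
      let e : (R₀ ⧸ I) ⊗[R₀] T ≃ₗ[R₀] T ⧸ J :=
        (TensorProduct.quotTensorEquivQuotSMul T I).trans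
          ((Submodule.quotEquivOfEq _ _ hsub).trans (Submodule.Quotient.restrictScalarsEquiv R₀ J))
      exact Module.Flat.of_linearEquiv (LinearEquiv.extendScalarsOfSurjective (R := R₀) (S := R₀ ⧸ I) Ideal.Quotient.mk_surjective e)
    show Module.Flat R₀ T
    refine flat_of_injective_of_flat_quotient I (S := T) ?_ ?_
    · show I.map φ ≤ _
      rw [hIJ, IsLocalRing.jacobson_eq_maximalIdeal _ bot_ne_top]
      exact hJle
    · let ι : R₀ ≃ₗ[R₀] I := LinearEquiv.toSpanNonzeroSingleton R₀ R₀ (X 0) (MvPolynomial.X_ne_zero 0)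
      have hι : I.subtype ∘ₗ ι.toLinearMap = LinearMap.mulRight R₀ (X 0 : R₀) := by
        refine LinearMap.ext_ring ?_
        show ((1 : R₀) • (X 0 : R₀)) = 1 * X 0
        rw [smul_eq_mul]
      refine (injective_iff_map_eq_zero _).mpr fun z hz => ?_
      obtain ⟨w, rfl⟩ := (ι.rTensor T).surjective z
      obtain ⟨v, rfl⟩ := (TensorProduct.lid R₀ T).symm.surjective w
      have h3 : I.subtype.rTensor T ((ι.rTensor T) ((TensorProduct.lid R₀ T).symm v)) = (X 0 : R₀) ⊗ₜ[R₀] v := by
        rw [TensorProduct.lid_symm_apply]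
        show ((I.subtype ∘ₗ ι.toLinearMap) 1) ⊗ₜ[R₀] v = _
        rw [hι, LinearMap.mulRight_apply, one_mul]
      rw [h3] at hz
      have h4 := congrArg (TensorProduct.lid R₀ T) hz
      rw [TensorProduct.lid_tmul, map_zero, Algebra.smul_def, hφ] at h4
      have h5 : v = 0 := hreg0 (h4.trans (mul_zero _).symm)
      subst h5
      simp

end Groth.FlatDescent.Slicing
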