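import Groth.Agent.FlatDescent.Slicing.Step
import Groth.Agent.FlatDescent.Presentation

/-!
# Slicing on an open neighbourhood, and what flatness over affine space gives

* `exists_away_flat`: fibrewise regular sequences give flatness over affine space on a basic open.
* `isWeaklyRegular_of_flat`, `flat_quotient_of_flat`: consequences.
-/

universe u

open MvPolynomial
open scoped TensorProduct

namespace Groth.FlatDescent.Slicing

theorem aeval_comp {R B C : Type u} [CommRing R] [CommRing B] [CommRing C] [Algebra R B] [Algebra R C]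
    (j : B →ₐ[R] C) {n : ℕ} (b : Fin n → B) :
    j.toRingHom.comp (aeval b : MvPolynomial (Fin n) R →ₐ[R] B).toRingHom =
      (aeval (fun i => j (b i)) : MvPolynomial (Fin n) R →ₐ[R] C).toRingHom :=
  congrArg AlgHom.toRingHom (MvPolynomial.algHom_ext (fun i => by simp) :
    j.comp (aeval b) = aeval fun i => j (b i))

/-- Fibrewise regular sequences give flatness over affine space near the point. -/
theorem exists_away_flat {R B : Type u} [CommRing R] [CommRing B] [Algebra R B] [Algebra.FinitePresentation R B]
    (Q : Ideal B) [Q.IsPrime] (hflat : FlatCA.FlatAt R Q B) {n : ℕ} (b : Fin n → B) (hb : ∀ i, b i ∈ Q)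
    (hreg : RingTheory.Sequence.IsWeaklyRegular
      (Localization.AtPrime Q ⧸ (Q.comap (algebraMap R B)).map (algebraMap R (Localization.AtPrime Q)))
      (List.ofFn fun i => Ideal.Quotient.mk ((Q.comap (algebraMap R B)).map (algebraMap R (Localization.AtPrime Q)))
        (algebraMap B (Localization.AtPrime Q) (b i)))) :
    ∃ g, g ∉ Q ∧ ∀ (C : Type u) [CommRing C] [Algebra R C] [Algebra B C] [IsScalarTower R B C],
      IsLocalization.Away g C →
      (aeval (fun i => algebraMap B C (b i)) : MvPolynomial (Fin n) R →ₐ[R] C).toRingHom.Flat := by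
  letI algX : Algebra (MvPolynomial (Fin n) R) B := (aeval b).toRingHom.toAlgebra
  haveI : IsScalarTower R (MvPolynomial (Fin n) R) B := IsScalarTower.of_algebraMap_eq fun r => ((aeval b).commutes r).symm
  haveI : Algebra.FinitePresentation (MvPolynomial (Fin n) R) B :=
    Algebra.FinitePresentation.of_restrict_scalars_finitePresentation R _ B
  have hQ := flatAt_mvPolynomial Q hflat b hb hreg
  let O : Set (PrimeSpectrum B) := {q | FlatCA.FlatAt (MvPolynomial (Fin n) R) q.asIdeal B}
  have hO : IsOpen O := isOpen_flatLocus_fp (MvPolynomial (Fin n) R) B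
  obtain ⟨_, ⟨g, rfl⟩, hg, hgO⟩ := PrimeSpectrum.isTopologicalBasis_basic_opens.exists_subset_of_mem_open
    (show (⟨Q, inferInstance⟩ : PrimeSpectrum B) ∈ O from hQ) hO
  refine ⟨g, hg, fun C _ _ _ _ hC => ?_⟩
  rw [show (aeval fun i => algebraMap B C (b i) : MvPolynomial (Fin n) R →ₐ[R] C).toRingHom =
    (algebraMap B C).comp (algebraMap (MvPolynomial (Fin n) R) B) from (aeval_comp (IsScalarTower.toAlgHom R B C) b).symm]
  letI : Algebra (MvPolynomial (Fin n) R) C :=
    ((algebraMap B C).comp (algebraMap (MvPolynomial (Fin n) R) B)).toAlgebra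
  haveI : IsScalarTower (MvPolynomial (Fin n) R) B C := IsScalarTower.of_algebraMap_eq fun _ => rfl
  show Module.Flat (MvPolynomial (Fin n) R) C
  refine Module.flat_of_isLocalized_maximal (R := MvPolynomial (Fin n) R) (S := C) C
    (fun (P : Ideal C) [P.IsMaximal] => Localization.AtPrime P)
    (fun P _ => Algebra.linearMap C (Localization.AtPrime P)) fun P _ => ?_
  let q := P.comap (algebraMap B C)
  have hq : (⟨q, inferInstance⟩ : PrimeSpectrum B) ∈ PrimeSpectrum.basicOpen g := fun h =>
    ‹P.IsMaximal›.ne_top (P.eq_top_of_isUnit_mem h (IsLocalization.Away.algebraMap_isUnit g))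
  have hf : Module.Flat (MvPolynomial (Fin n) R) (LocalizedModule q.primeCompl B) := hgO hq
  haveI : IsLocalization.AtPrime (Localization.AtPrime P) q :=
    IsLocalization.isLocalization_isLocalization_atPrime_isLocalization (Submonoid.powers g) (Localization.AtPrime P) P
  exact Module.Flat.of_linearEquiv ((IsLocalizedModule.iso q.primeCompl
    (Algebra.linearMap B (Localization.AtPrime P))).restrictScalars (MvPolynomial (Fin n) R)).symm

/-- The variables form a weakly regular sequence. -/
theorem isWeaklyRegular_X : ∀ (n : ℕ) (R : Type u) [CommRing R],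
    RingTheory.Sequence.IsWeaklyRegular (MvPolynomial (Fin n) R) (List.ofFn fun i => (X i : MvPolynomial (Fin n) R)) := by
  intro n
  induction n with
  | zero => intro R _; simp
  | succ n ih =>
    intro R _
    rw [List.ofFn_succ, RingTheory.Sequence.isWeaklyRegular_cons_iff']
    refine ⟨MvPolynomial.isRegular_X.left, ?_⟩
    obtain ⟨χ, hχ, -, -, χS⟩ := exists_quotient_zero (K := R) n
    let I := Ideal.span {(X 0 : MvPolynomial (Fin (n + 1)) R)}
    let e : QuotSMulTop (X 0 : MvPolynomial (Fin (n + 1)) R) (MvPolynomial (Fin (n + 1)) R) ≃ₗ[MvPolynomial (Fin (n + 1)) R ⧸ I]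
        MvPolynomial (Fin (n + 1)) R ⧸ I :=
      LinearEquiv.extendScalarsOfSurjective (R := MvPolynomial (Fin (n + 1)) R) Ideal.Quotient.mk_surjective
        (Submodule.quotEquivOfEq _ _ (by rw [← Submodule.ideal_span_singleton_smul, smul_eq_mul, Ideal.mul_top]))
    rw [e.isWeaklyRegular_congr, List.map_ofFn]
    let eχ := RingEquiv.ofBijective χ hχ
    refine ((eχ.toAddEquiv).isWeaklyRegular_congr (as := _) (bs := List.ofFn fun i => (X i : MvPolynomial (Fin n) R)) ?_).mpr (ih R)
    rw [List.forall₂_iff_get]
    refine ⟨by simp, fun i h₁ h₂ z => ?_⟩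
    simp only [List.get_eq_getElem, List.getElem_ofFn, Function.comp_apply]
    show eχ (_ * z) = X _ * eχ z
    rw [map_mul]
    exact congrArg (· * eχ z) (χS _)

/-- Flatness over affine space gives a weakly regular sequence. -/
theorem isWeaklyRegular_of_flat {R C : Type u} [CommRing R] [CommRing C] {n : ℕ}
    (φ : MvPolynomial (Fin n) R →+* C) (hφ : φ.Flat) :
    RingTheory.Sequence.IsWeaklyRegular C (List.ofFn fun i => φ (X i)) := by
  letI := φ.toAlgebra
  haveI : Module.Flat (MvPolynomial (Fin n) R) C := hφ
  have h := (isWeaklyRegular_X n R).of_flat (S := C)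
  rwa [List.map_ofFn] at h

theorem ker_constantCoeff (n : ℕ) (R : Type u) [CommRing R] :
    RingHom.ker (constantCoeff : MvPolynomial (Fin n) R →+* R) = Ideal.span (Set.range X) := by
  refine le_antisymm (fun p hp => ?_) (Ideal.span_le.mpr ?_)
  · have key : ∀ p : MvPolynomial (Fin n) R, p - C (constantCoeff p) ∈ Ideal.span (Set.range (X : Fin n → MvPolynomial (Fin n) R)) := by
      intro p
      induction p using MvPolynomial.induction_on with
      | C a => simp
      | add p q hp hq => simpa [sub_add_sub_comm] using add_mem hp hq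
      | mul_X p i hp =>
        rw [map_mul, constantCoeff_X, mul_zero, map_zero, sub_zero]
        exact Ideal.mul_mem_left _ _ (Ideal.subset_span ⟨i, rfl⟩)
    simpa [RingHom.mem_ker.mp hp] using key p
  · rintro _ ⟨i, rfl⟩
    simp

/-- Flatness over affine space makes the quotient by the sequence flat over the base. -/
theorem flat_quotient_of_flat {R C : Type u} [CommRing R] [CommRing C] {n : ℕ}
    (φ : MvPolynomial (Fin n) R →+* C) (hφ : φ.Flat) (J : Ideal C) (hJ : J = Ideal.span (Set.range fun i => φ (X i))) :
    ((Ideal.Quotient.mk J).comp (φ.comp MvPolynomial.C)).Flat := by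
  refine flat_of_surjective_of_ker φ hφ constantCoeff (fun r => ⟨MvPolynomial.C r, constantCoeff_C _ r⟩)
    (Ideal.Quotient.mk J) Ideal.Quotient.mk_surjective ?_ _ ?_
  · rw [ker_constantCoeff, Ideal.map_span, Ideal.mk_ker, hJ, ← Set.range_comp]
    rfl
  · refine MvPolynomial.ringHom_ext (fun r => ?_) fun i => ?_
    · simp
    · simp only [RingHom.comp_apply, constantCoeff_X, map_zero]
      exact (Ideal.Quotient.eq_zero_iff_mem.mpr (hJ ▸ Ideal.subset_span ⟨i, rfl⟩)).symm

end Groth.FlatDescent.Slicing
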