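import Groth.Agent.FlatDescent.Scheme
import Groth.Agent.FlatDescent.Slicing.FibreFlat

/-!
# Slicing a flat algebra by a fibrewise regular sequence

If `B` is finitely presented, flat over `R` at `Q` and `b₁, …, bₙ ∈ Q` are regular on the local ring of the fibre at
`Q`, then `B` is flat over `R[X₁, …, Xₙ]` (`Xᵢ ↦ bᵢ`) at `Q`.
-/

universe u

open MvPolynomial
open scoped TensorProduct

namespace Groth.FlatDescent.Slicing

/-- A localisation of an algebra of finite type over a field, modulo an ideal, is Noetherian. -/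
theorem isNoetherianRing_of_surj_localization {R B K T : Type u} [CommRing R] [CommRing B] [Algebra R B]
    [Algebra.FiniteType R B] [Field K] [Algebra R K] [CommRing T] [Algebra R T] (ψ : K →ₐ[R] T) (j : B →ₐ[R] T)
    (hj : ∀ y : T, ∃ (a s : B), IsUnit (j s) ∧ y * j s = j a) : IsNoetherianRing T := by
  let g : TensorProduct R K B →ₐ[R] T := Algebra.TensorProduct.lift ψ j fun _ _ => Commute.all _ _
  haveI : IsNoetherianRing (TensorProduct R K B) := Algebra.FiniteType.isNoetherianRing K _
  refine (isNoetherianRing_iff_ideal_fg _).mpr fun J => ?_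
  have : J = (J.comap g.toRingHom).map g.toRingHom := by
    refine le_antisymm (fun y hy => ?_) Ideal.map_comap_le
    obtain ⟨a, s, hs, he⟩ := hj y
    have hg : ∀ c : B, g (1 ⊗ₜ[R] c) = j c := fun c => by simp [g]
    have hmem : g.toRingHom (1 ⊗ₜ[R] a) ∈ (J.comap g.toRingHom).map g.toRingHom :=
      Ideal.mem_map_of_mem _ (show g (1 ⊗ₜ[R] a) ∈ J by rw [hg, ← he]; exact J.mul_mem_right _ hy)
    rw [show g.toRingHom (1 ⊗ₜ[R] a) = y * j s from (hg a).trans he.symm] at hmem
    exact (Ideal.mul_unit_mem_iff_mem _ hs).mp hmem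
  rw [this]
  exact ((isNoetherianRing_iff_ideal_fg _).mp inferInstance _).map _

/-- Slicing: flatness over affine space. -/
theorem flatAt_mvPolynomial {R B : Type u} [CommRing R] [CommRing B] [Algebra R B] [Algebra.FinitePresentation R B]
    (Q : Ideal B) [Q.IsPrime] (hflat : FlatCA.FlatAt R Q B) {n : ℕ} (b : Fin n → B) (hb : ∀ i, b i ∈ Q)
    (hreg : RingTheory.Sequence.IsWeaklyRegular
      (Localization.AtPrime Q ⧸ (Q.comap (algebraMap R B)).map (algebraMap R (Localization.AtPrime Q)))
      (List.ofFn fun i => Ideal.Quotient.mk ((Q.comap (algebraMap R B)).map (algebraMap R (Localization.AtPrime Q)))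
        (algebraMap B (Localization.AtPrime Q) (b i)))) :
    letI : Algebra (MvPolynomial (Fin n) R) B := (aeval b).toRingHom.toAlgebra
    FlatCA.FlatAt (MvPolynomial (Fin n) R) Q B := by
  letI : Algebra (MvPolynomial (Fin n) R) B := (aeval b).toRingHom.toAlgebra
  haveI : IsScalarTower R (MvPolynomial (Fin n) R) B := IsScalarTower.of_algebraMap_eq fun r => ((aeval b).commutes r).symm
  haveI : Algebra.FinitePresentation R (MvPolynomial (Fin n) R) := inferInstance
  refine flat_fibre_criterion_fp R (MvPolynomial (Fin n) R) Q hflat ?_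
  let p := Q.comap (algebraMap R B)
  let T := Localization.AtPrime Q
  let φ : (MvPolynomial (Fin n) R) →+* T := (algebraMap B T).comp (aeval b).toRingHom
  refine flat_quotient_of_localization (By := (MvPolynomial (Fin n) R)) (Cx := T) Q ?_ φ ((RingHom.comp_id φ).trans (IsScalarTower.algebraMap_eq (MvPolynomial (Fin n) R) B T).symm) (p.map (algebraMap R (MvPolynomial (Fin n) R))) ?_
  · exact RingHom.flat_algebraMap_iff.mpr inferInstance
  rw [Algebra.algebraMap_self, Ideal.map_id]
  have hφC : φ.comp (C : R →+* (MvPolynomial (Fin n) R)) = algebraMap R T := by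
    ext r
    show algebraMap B T (aeval b (C r)) = _
    rw [aeval_C, ← IsScalarTower.algebraMap_apply]
  let I : Ideal T := p.map (algebraMap R T)
  have hI : (p.map (algebraMap R (MvPolynomial (Fin n) R))).map φ = I := by rw [Ideal.map_map]; exact congrArg (fun h => p.map h) hφC
  have hIle : I ≤ IsLocalRing.maximalIdeal T := by
    show p.map _ ≤ _
    rw [IsScalarTower.algebraMap_eq R B T, ← Ideal.map_map, ← Localization.AtPrime.map_eq_maximalIdeal]
    exact Ideal.map_mono Ideal.map_comap_le
  haveI : Nontrivial (T ⧸ I) :=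
    Ideal.Quotient.nontrivial_iff.mpr fun h => (IsLocalRing.maximalIdeal.isMaximal T).ne_top (top_unique (h ▸ hIle))
  haveI : IsLocalRing (T ⧸ I) := IsLocalRing.of_surjective' (Ideal.Quotient.mk I) Ideal.Quotient.mk_surjective
  let ψ₀ : R ⧸ p →+* T ⧸ I := Ideal.quotientMap I (algebraMap R T) Ideal.le_comap_map
  let K := FractionRing (R ⧸ p)
  have hunit : ∀ y : nonZeroDivisors (R ⧸ p), IsUnit (ψ₀ y) := by
    rintro ⟨y, hy⟩
    obtain ⟨r, rfl⟩ := Ideal.Quotient.mk_surjective y
    show IsUnit (Ideal.Quotient.mk I (algebraMap R T r))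
    refine IsUnit.map _ ?_
    rw [IsScalarTower.algebraMap_apply R B T]
    refine IsLocalization.map_units T (⟨algebraMap R B r, fun h => ?_⟩ : Q.primeCompl)
    exact nonZeroDivisors.ne_zero hy (Ideal.Quotient.eq_zero_iff_mem.mpr h)
  let ψ : K →+* T ⧸ I := IsLocalization.lift hunit
  let t : Fin n → T ⧸ I := fun i => Ideal.Quotient.mk I (algebraMap B T (b i))
  haveI : IsLocalHom (Ideal.Quotient.mk I) := IsLocalHom.of_surjective _ Ideal.Quotient.mk_surjective
  have ht : ∀ i, t i ∈ IsLocalRing.maximalIdeal (T ⧸ I) := fun i => by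
    refine (IsLocalRing.mem_maximalIdeal _).mpr fun hu => ?_
    exact ((IsLocalization.AtPrime.to_map_mem_maximal_iff T Q (b i)).mpr (hb i)) ((isUnit_map_iff (Ideal.Quotient.mk I) _).mp hu)
  haveI : IsNoetherianRing (T ⧸ I) := by
    let ψA : K →ₐ[R] T ⧸ I :=
      { ψ with
        commutes' := fun r => by
          show ψ (algebraMap R K r) = _
          rw [IsScalarTower.algebraMap_apply R (R ⧸ p) K, IsLocalization.lift_eq]
          rfl }
    refine isNoetherianRing_of_surj_localization ψA ((Ideal.Quotient.mkₐ R I).comp (IsScalarTower.toAlgHom R B T))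
      fun y => ?_
    obtain ⟨x, rfl⟩ := Ideal.Quotient.mk_surjective y
    obtain ⟨⟨a, s⟩, hx⟩ := IsLocalization.surj Q.primeCompl x
    refine ⟨a, s, (IsLocalization.map_units T s).map (Ideal.Quotient.mk I), ?_⟩
    exact (map_mul (Ideal.Quotient.mk I) _ _).symm.trans (congrArg (Ideal.Quotient.mk I) hx)
  haveI hK : (eval₂Hom ψ t).Flat := flat_eval₂Hom_of_regular n ψ t ht hreg
  have hM : (MvPolynomial.map (σ := Fin n) (algebraMap (R ⧸ p) K)).Flat := by
    letI : Algebra (MvPolynomial (Fin n) (R ⧸ p)) (MvPolynomial (Fin n) K) := MvPolynomial.algebraMvPolynomial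
    haveI := MvPolynomial.isLocalization (σ := Fin n) (nonZeroDivisors (R ⧸ p)) K
    exact RingHom.flat_algebraMap_iff.mpr
      (IsLocalization.flat (MvPolynomial (Fin n) K) ((nonZeroDivisors (R ⧸ p)).map (C : R ⧸ p →+* MvPolynomial (Fin n) (R ⧸ p))))
  let a : (MvPolynomial (Fin n) R) →+* (MvPolynomial (Fin n) (R ⧸ p)) := MvPolynomial.map (σ := Fin n) (Ideal.Quotient.mk p)
  have ha : Function.Surjective a := MvPolynomial.map_surjective _ Ideal.Quotient.mk_surjective
  have hka : RingHom.ker a = p.map (algebraMap R (MvPolynomial (Fin n) R)) := by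
    rw [MvPolynomial.ker_map, Ideal.mk_ker]
    rfl
  have hg : ((eval₂Hom ψ t).comp (MvPolynomial.map (σ := Fin n) (algebraMap (R ⧸ p) K))).comp a = (Ideal.Quotient.mk I).comp φ := by
    refine MvPolynomial.ringHom_ext (fun r => ?_) fun i => ?_
    · show eval₂Hom ψ t (MvPolynomial.map _ (MvPolynomial.map _ (C r))) = Ideal.Quotient.mk I (φ (C r))
      rw [map_C, map_C, eval₂Hom_C, IsLocalization.lift_eq]
      exact congrArg (Ideal.Quotient.mk I) (RingHom.congr_fun hφC r).symm
    · show eval₂Hom ψ t (MvPolynomial.map _ (MvPolynomial.map _ (X i))) = Ideal.Quotient.mk I (φ (X i))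
      rw [map_X, map_X, eval₂Hom_X']
      show t i = Ideal.Quotient.mk I (algebraMap B T (aeval b (X i)))
      rw [aeval_X]
  rw [← flat_quotientMap_congr φ hka]
  exact (flat_iff_quotientMap φ a ha (Ideal.Quotient.mk I) Ideal.Quotient.mk_surjective
    (by rw [hka, hI, Ideal.mk_ker]) _ hg).mp (RingHom.Flat.comp hM hK)

end Groth.FlatDescent.Slicing
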